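import Cfsg.Agent.J1Aut70.Tables
import Cfsg.Agent.Recog71.J1Simple
import Cfsg.Prelude.Def_KGroupFacts

/-!
# The first Janko group has no outer automorphisms (helper70)
-/

set_option autoImplicit false
set_option maxRecDepth 10000

namespace Cfsg.Agent.J1Aut70

open Cfsg Cfsg.Agent.Recog71.J1

attribute [local irreducible] pairMat npowM mul toMat invPair wordUV Gn uM invMat conjIdx vIdx

/-- A listed involution as an element. -/
noncomputable def invElt (k : Fin 1463) : Spor.J1 := elt (invPair k)

theorem mat_invElt (k : Fin 1463) : mat (invElt k) = toMat (invMat k) := by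
  unfold invMat invElt
  exact mat_elt _

theorem good_invMat (k : Fin 1463) : good (invMat k) = true := by
  unfold invMat
  exact good_pair _

theorem good_Gn (g : Fin 2) : good (Gn g.val) = true := gen_valid.1 ⟨g.val, by omega⟩

/-- A generator. -/
def genX (g : Fin 2) : Spor.J1 :=
  if g = 0 then ⟨Spor.jankoX, Subgroup.subset_closure (Or.inl rfl)⟩
  else ⟨Spor.jankoY, Subgroup.subset_closure (Or.inr rfl)⟩

theorem mat_genX (g : Fin 2) : mat (genX g) = toMat (Gn g.val) := by
  fin_cases g
  · exact gen_valid.2.1.symm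
  · exact gen_valid.2.2.1.symm

theorem closure_genX : Subgroup.closure (Set.range genX) = ⊤ := by
  apply Subgroup.map_injective Spor.J1.subtype_injective
  rw [MonoidHom.map_closure, ← MonoidHom.range_eq_map, Subgroup.range_subtype]
  apply le_antisymm
  · rw [Subgroup.closure_le]
    rintro _ ⟨x, -, rfl⟩
    exact x.2
  · show Subgroup.closure {Spor.jankoX, Spor.jankoY} ≤ _
    apply Subgroup.closure_mono
    rintro _ (rfl | rfl)
    · exact ⟨genX 0, ⟨0, rfl⟩, rfl⟩
    · exact ⟨genX 1, ⟨1, rfl⟩, rfl⟩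

/-- The listed involutions. -/
noncomputable def listed : Set Spor.J1 := Set.range invElt

theorem conj_genX {x : Spor.J1} (hx : x ∈ listed) (g : Fin 2) :
    genX g * x * (genX g)⁻¹ ∈ listed := by
  obtain ⟨k, rfl⟩ := hx
  refine ⟨conjIdx k g, ?_⟩
  rw [eq_mul_inv_iff_mul_eq]
  refine mat_injective ?_
  show mat (invElt (conjIdx k g) * genX g : Spor.J1) = mat (genX g * invElt k : Spor.J1)
  rw [mat_mul, mat_mul, mat_invElt, mat_invElt, mat_genX, ← toMat_mul (good_invMat _) (good_Gn g),
    ← toMat_mul (good_Gn g) (good_invMat _), conj_valid k g]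

theorem conj_listed {x : Spor.J1} (hx : x ∈ listed) (y : Spor.J1) : y * x * y⁻¹ ∈ listed := by
  have hy : y ∈ Subgroup.closure (Set.range genX) := by rw [closure_genX]; exact Subgroup.mem_top _
  induction hy using Subgroup.closure_induction generalizing x with
  | mem z hz => obtain ⟨g, rfl⟩ := hz; exact conj_genX hx g
  | one => simpa using hx
  | mul a b _ _ ha hb =>
    have := ha (hb hx)
    rw [show a * b * x * (a * b)⁻¹ = a * (b * x * b⁻¹) * a⁻¹ by group]
    exact this
  | inv a _ ha =>
    have hp : ∀ n : ℕ, ∀ z ∈ listed, a ^ n * z * (a ^ n)⁻¹ ∈ listed := by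
      intro n
      induction n with
      | zero => intro z hz; simpa using hz
      | succ n ih =>
        intro z hz
        rw [show a ^ (n + 1) * z * (a ^ (n + 1))⁻¹ = a * (a ^ n * z * (a ^ n)⁻¹) * a⁻¹ by
          rw [pow_succ']; group]
        exact ha (ih z hz)
    obtain ⟨n, hn⟩ : ∃ n : ℕ, a⁻¹ = a ^ n := ⟨orderOf a - 1, by
      rw [inv_eq_iff_mul_eq_one, ← pow_succ', Nat.sub_add_cancel (orderOf_pos a), pow_orderOf_eq_one]⟩
    rw [hn]
    exact hp n x hx

theorem pairMat_zero_zero : pairMat ((0 : Fin 1596), (0 : Fin 110)) = mul idm idm := by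
  unfold pairMat
  show mul (T 0) (Hh 0) = _
  rw [T_zero, sub_valid.1]

/-- Every involution is listed. -/
theorem mem_listed {x : Spor.J1} (h2 : x * x = 1) (h1 : x ≠ 1) : x ∈ listed := by
  obtain ⟨i, a, hx⟩ := InS_of_mem x.2
  set r := dcr i with hr
  set b := dcl i with hb
  obtain ⟨d₁, hd₁⟩ := Cfsg.Agent.Recog71.J1.sub_mul (dcx i) a
  obtain ⟨d, hd⟩ := Cfsg.Agent.Recog71.J1.sub_mul d₁ b
  have hT : toMat (T i.val) = toMat (Hh b.val) * (toMat (T (rep r).val) * toMat (Hh (dcx i).val)) := by
    rw [← toMat_mul (good_T _) (good_sub _),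
      ← toMat_mul (good_sub _) (good_mul (good_T _) (good_sub _)), double_valid i]
  have hconj : mat x * toMat (Hh b.val) =
      toMat (Hh b.val) * (toMat (T (rep r).val) * toMat (Hh d.val)) := by
    rw [hx, hT, ← hd, ← hd₁]
    simp only [mul_assoc]
  set B : Spor.J1 := elt (0, b) with hB
  have hmB : mat B = toMat (Hh b.val) := by
    rw [hB, mat_elt, val_eq, val, show ((0 : Fin 1596) : ℕ) = 0 from rfl, T_zero, toMat_idm, one_mul]
  have hrep : B⁻¹ * x * B = elt (rep r, d) := by
    rw [mul_assoc, inv_mul_eq_iff_eq_mul]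
    refine mat_injective ?_
    show mat (x * B : Spor.J1) = mat (B * elt (rep r, d) : Spor.J1)
    rw [mat_mul, mat_mul, hmB, mat_elt, val_eq, val]
    exact hconj
  have hsq : elt (rep r, d) * elt (rep r, d) = 1 := by
    rw [← hrep, show B⁻¹ * x * B * (B⁻¹ * x * B) = B⁻¹ * (x * x) * B by group, h2]; group
  have hpk : mul (pairMat (rep r, d)) (pairMat (rep r, d)) = idm := by
    rw [← genWord_valid.2.2.2.2.2.2.2]
    refine mul_eq_of_toMat (good_pair _) (good_pair _) good_idm good_idm ?_
    rw [toMat_mul (good_pair _) (good_pair _), toMat_mul good_idm good_idm, toMat_idm, one_mul,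
      ← mat_elt, ← mat_mul, hsq, mat_one]
  rcases rep_invol_valid r d (by rw [force_eq]; exact hpk) with h | ⟨k, hk⟩
  · refine absurd ?_ h1
    have h' : elt (rep r, d) = 1 := mat_injective (by
      show mat (elt (rep r, d)) = mat (1 : Spor.J1)
      rw [mat_elt, h, toMat_idm, mat_one])
    calc x = B * (B⁻¹ * x * B) * B⁻¹ := by group
      _ = 1 := by rw [hrep, h']; group
  · have : elt (rep r, d) ∈ listed := ⟨k, by rw [invElt, hk]⟩
    have := conj_listed this B
    rwa [← hrep, show B * (B⁻¹ * x * B) * B⁻¹ = x by group] at this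

/-- The element of order eleven. -/
def uE : Spor.J1 := genX 0 * (genX 1 * genX 1)

theorem mat_uE : good uM = true ∧ mat uE = toMat uM := by
  unfold uM uE
  refine ⟨good_mul (good_Gn 0) (good_mul (good_Gn 1) (good_Gn 1)), ?_⟩
  rw [mat_mul, mat_mul, mat_genX, mat_genX, ← toMat_mul (good_Gn 1) (good_Gn 1),
    ← toMat_mul (good_Gn 0) (good_mul (good_Gn 1) (good_Gn 1))]
  rfl

/-- The chosen involution as an element. -/
noncomputable def vE : Spor.J1 := invElt vIdx

/-- The value of a word in the two elements. -/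
noncomputable def evalUV : List ℕ → Spor.J1
  | [] => 1
  | l :: w => (if l = 0 then uE else vE) * evalUV w

theorem mat_evalUV : ∀ w, good (wordUV w) = true ∧ mat (evalUV w) = toMat (wordUV w)
  | [] => by rw [wordUV, evalUV, mat_one, toMat_idm]; exact ⟨good_idm, rfl⟩
  | l :: w => by
    obtain ⟨h1, h2⟩ := mat_evalUV w
    rw [wordUV, force_eq, evalUV, mat_mul, h2]
    by_cases hl : l = 0
    · rw [if_pos hl, if_pos hl, mat_uE.2]
      exact ⟨good_mul mat_uE.1 h1, (toMat_mul mat_uE.1 h1).symm⟩
    · rw [if_neg hl, if_neg hl, vE, mat_invElt]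
      exact ⟨good_mul (good_invMat _) h1, (toMat_mul (good_invMat _) h1).symm⟩

theorem genX_eq : ∀ g : Fin 2, evalUV (Data.genWord.getD g.val []) = genX g := by
  intro g
  refine mat_injective ?_
  show mat (evalUV _) = mat (genX g)
  rw [(mat_evalUV _).2, mat_genX]
  fin_cases g
  · exact congrArg toMat genWord_valid.1
  · exact congrArg toMat genWord_valid.2.1

theorem npowM_eq_idm {P : ℕ} {x : Spor.J1} (hP : good P = true) (hx : mat x = toMat P) {n : ℕ}
    (hn : x ^ (n + 1) = 1) : npowM P (n + 1) = idm := by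
  obtain ⟨hg, ht⟩ := toMat_npowM hP n
  rw [npowM, force_eq, ← genWord_valid.2.2.2.2.2.2.2]
  refine mul_eq_of_toMat hg hP good_idm good_idm ?_
  rw [toMat_mul hg hP, toMat_mul good_idm good_idm, toMat_idm, one_mul, ht, ← pow_succ, ← hx,
    ← mat_pow, hn, mat_one]

theorem pow_eq_one_of_npowM {P : ℕ} {x : Spor.J1} (hP : good P = true) (hx : mat x = toMat P)
    {n : ℕ} (hn : npowM P n = idm) : x ^ n = 1 := mat_injective (by
  show mat (x ^ n : Spor.J1) = mat (1 : Spor.J1)
  rw [mat_pow, hx, ← (toMat_npowM hP n).2, hn, toMat_idm, mat_one])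

theorem uE_ne_one : uE ≠ 1 := fun h => genWord_valid.2.2.2.2.2.2.1 (by
  rw [← mat_uE.2, h, mat_one])

theorem vE_sq : vE * vE = 1 ∧ vE ≠ 1 := by
  have h7 : (uE * vE) ^ 7 = 1 := pow_eq_one_of_npowM (good_mul mat_uE.1 (good_invMat vIdx))
    (by rw [mat_mul, mat_uE.2, vE, mat_invElt, toMat_mul mat_uE.1 (good_invMat _)])
    genWord_valid.2.2.2.1
  have hu : uE ^ 11 = 1 := pow_eq_one_of_npowM mat_uE.1 mat_uE.2 genWord_valid.2.2.2.2.2.1
  refine ⟨?_, fun h => uE_ne_one ?_⟩
  · refine mat_injective ?_
    show mat (vE * vE : Spor.J1) = mat (1 : Spor.J1)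
    rw [mat_mul, vE, mat_invElt, ← toMat_mul (good_invMat _) (good_invMat _), sq_valid, toMat_idm,
      mat_one]
  · rw [h, mul_one] at h7
    calc uE = (uE ^ 7) ^ 8 * (uE ^ 11) ^ (-5 : ℤ) := by group
      _ = 1 := by rw [h7, hu]; simp
where
  sq_valid : mul (invMat vIdx) (invMat vIdx) = idm := by decide +kernel

theorem ext_uv {φ ψ : MulAut Spor.J1} (hu : φ uE = ψ uE) (hv : φ vE = ψ vE) : φ = ψ := by
  have hw : ∀ w, φ (evalUV w) = ψ (evalUV w) := by
    intro w
    induction w with
    | nil => rw [evalUV, map_one, map_one]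
    | cons l w ih =>
      rw [evalUV, map_mul, map_mul, ih]
      by_cases hl : l = 0
      · rw [if_pos hl, hu]
      · rw [if_neg hl, hv]
  refine MulEquiv.toMonoidHom_injective ?_
  refine MonoidHom.eq_of_eqOn_dense closure_genX ?_
  rintro _ ⟨g, rfl⟩
  show φ (genX g) = ψ (genX g)
  rw [← genX_eq g]
  exact hw _

theorem card_stab : Nat.card (MulAction.stabilizer (MulAut Spor.J1) uE) ≤ 11 := by
  classical
  have h : ∀ φ : MulAction.stabilizer (MulAut Spor.J1) uE, ∃ k : Fin 1463,
      relOK k = true ∧ invElt k = φ.1 vE := by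
    intro φ
    have hu : φ.1 uE = uE := φ.2
    have h2 : φ.1 vE * φ.1 vE = 1 := by rw [← map_mul, vE_sq.1, map_one]
    have h1 : φ.1 vE ≠ 1 := fun h => vE_sq.2 (φ.1.injective (h.trans (map_one _).symm))
    obtain ⟨k, hk⟩ := mem_listed h2 h1
    refine ⟨k, ?_, hk⟩
    have hm : mat (uE * φ.1 vE : Spor.J1) = toMat (mul uM (invMat k)) := by
      rw [toMat_mul mat_uE.1 (good_invMat _), ← mat_invElt, hk, ← mat_uE.2, mat_mul]
    have hgood := good_mul mat_uE.1 (good_invMat k)
    have h7 : (uE * vE) ^ 7 = 1 := pow_eq_one_of_npowM (good_mul mat_uE.1 (good_invMat vIdx))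
      (by rw [mat_mul, mat_uE.2, vE, mat_invElt, toMat_mul mat_uE.1 (good_invMat _)])
      genWord_valid.2.2.2.1
    have h11 : (uE * (uE * vE)) ^ 11 = 1 := pow_eq_one_of_npowM
      (good_mul mat_uE.1 (good_mul mat_uE.1 (good_invMat vIdx)))
      (by rw [mat_mul, mat_mul, mat_uE.2, vE, mat_invElt, ← toMat_mul mat_uE.1 (good_invMat _),
        ← toMat_mul mat_uE.1 (good_mul mat_uE.1 (good_invMat _))])
      genWord_valid.2.2.2.2.1
    have h7' := congrArg φ.1 h7
    have h11' := congrArg φ.1 h11
    simp only [map_pow, map_mul, map_one, hu] at h7' h11'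
    rw [relOK, force_eq, Bool.and_eq_true, decide_eq_true_eq, decide_eq_true_eq]
    exact ⟨npowM_eq_idm hgood hm h7', npowM_eq_idm (good_mul mat_uE.1 hgood)
      (by rw [mat_mul, hm, mat_uE.2, toMat_mul mat_uE.1 hgood]) h11'⟩
  choose k hk1 hk2 using h
  let f : MulAction.stabilizer (MulAut Spor.J1) uE →
      {x // x ∈ ((List.finRange 1463).filter relOK).toFinset} :=
    fun φ => ⟨k φ, List.mem_toFinset.mpr (List.mem_filter.mpr ⟨List.mem_finRange _, hk1 φ⟩)⟩
  have hf : Function.Injective f := by
    intro φ ψ e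
    have e' : k φ = k ψ := congrArg Subtype.val e
    have hφ : φ.1 uE = uE := φ.2
    have hψ : ψ.1 uE = uE := ψ.2
    exact Subtype.ext (ext_uv (hφ.trans hψ.symm) (by rw [← hk2, ← hk2, e']))
  refine le_trans (Nat.card_le_card_of_injective f hf) ?_
  rw [Nat.card_eq_fintype_card, Fintype.card_coe]
  refine le_trans (List.toFinset_card_le _) ?_
  rw [← List.countP_eq_length_filter]
  exact relOK_count

/-- The subgroup generated by the element of order eleven is normalised by a subgroup of order 110. -/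
theorem card_orderEleven : Nat.card {x : Spor.J1 // orderOf x = 11} ≤ 15960 := by
  classical
  haveI : Fact (Nat.Prime 11) := ⟨by norm_num⟩
  -- the subgroup of the transversal
  let H : Subgroup Spor.J1 :=
    { carrier := Set.range fun a : Fin 110 => elt (0, a)
      one_mem' := ⟨0, mat_injective (by
        show mat (elt (0, 0)) = mat (1 : Spor.J1)
        rw [mat_elt, pairMat_zero_zero, toMat_mul good_idm good_idm, toMat_idm, one_mul, mat_one])⟩
      mul_mem' := by
        rintro _ _ ⟨a, rfl⟩ ⟨c, rfl⟩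
        obtain ⟨e, he⟩ := Cfsg.Agent.Recog71.J1.sub_mul a c
        refine ⟨e, mat_injective ?_⟩
        show mat (elt (0, e)) = mat (elt (0, a) * elt (0, c) : Spor.J1)
        rw [mat_mul, mat_elt, mat_elt, mat_elt, val_eq, val_eq, val_eq, val, val, val,
          show ((0 : Fin 1596) : ℕ) = 0 from rfl, T_zero, toMat_idm, one_mul, one_mul, one_mul, he]
      inv_mem' := by
        rintro _ ⟨a, rfl⟩
        refine ⟨hinv a, eq_inv_of_mul_eq_one_right (mat_injective ?_)⟩
        show mat (elt (0, a) * elt (0, hinv a) : Spor.J1) = mat (1 : Spor.J1)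
        rw [mat_mul, mat_elt, mat_elt, val_eq, val_eq, val, val,
          show ((0 : Fin 1596) : ℕ) = 0 from rfl, T_zero, toMat_idm, one_mul, one_mul, sub_inv,
          mat_one] }
  have hH : Nat.card H = 110 := by
    have hinj : Function.Injective fun a : Fin 110 => elt ((0 : Fin 1596), a) := by
      intro a c h
      have := congrArg (fun x : Spor.J1 => mat x) h
      simp only [mat_elt, val_eq] at this
      exact congrArg Prod.snd (val_injective this)
    show Nat.card (Set.range fun a : Fin 110 => elt ((0 : Fin 1596), a)) = 110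
    rw [Nat.card_range_of_injective hinj, Nat.card_fin]
  obtain ⟨z, hz⟩ := exists_prime_orderOf_dvd_card' (G := H) 11 (by rw [hH]; norm_num)
  obtain ⟨P, hP⟩ := Cfsg.Agent.SmallGroups.exists_mem_sylow
    (show orderOf (z : Spor.J1) = 11 by rw [Subgroup.orderOf_coe, hz])
  have hc : ∀ Q : Sylow 11 Spor.J1, Nat.card (Q : Subgroup Spor.J1) = 11 := fun Q => by
    rw [Q.card_eq_multiplicity, card_J1]
    rw [show (175560 : ℕ).factorization 11 = 1 by
      rw [Nat.factorization_def _ (by norm_num : (Nat.Prime 11)),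
        show (175560 : ℕ) = 11 ^ 1 * 15960 by norm_num,
        padicValNat.mul (by norm_num) (by norm_num), padicValNat.prime_pow,
        padicValNat.eq_zero_of_not_dvd (by norm_num : ¬ 11 ∣ 15960)]]
    norm_num
  have hz1 : (z : Spor.J1) ≠ 1 := fun e => by
    have h' : orderOf (z : Spor.J1) = 11 := by rw [Subgroup.orderOf_coe, hz]
    rw [e, orderOf_one] at h'
    exact absurd h' (by norm_num)
  have hPz : (P : Subgroup Spor.J1) = Subgroup.zpowers (z : Spor.J1) :=
    (Cfsg.Agent.SmallGroups.zpowers_eq_of_card_prime (hc P) hP hz1).symm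
  -- the normaliser contains the subgroup of order 110
  have hN : H ≤ Subgroup.normalizer ((P : Subgroup Spor.J1) : Set Spor.J1) := by
    haveI : (Subgroup.zpowers z).Normal := by
      obtain ⟨R, hR⟩ := Cfsg.Agent.SmallGroups.exists_mem_sylow hz
      have hR11 : Nat.card (R : Subgroup H) = 11 := by
        rw [R.card_eq_multiplicity, hH]
        rw [show (110 : ℕ).factorization 11 = 1 by
          rw [Nat.factorization_def _ (by norm_num : (Nat.Prime 11)),
            show (110 : ℕ) = 11 ^ 1 * 10 by norm_num,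
            padicValNat.mul (by norm_num) (by norm_num), padicValNat.prime_pow,
            padicValNat.eq_zero_of_not_dvd (by norm_num : ¬ 11 ∣ 10)]]
        norm_num
      have hone : Nat.card (Sylow 11 H) = 1 := by
        have h1 := card_sylow_modEq_one 11 H
        have h2 : Nat.card (Sylow 11 H) ∣ 10 := by
          have h3 := R.card_dvd_index
          have h4 := (R : Subgroup H).card_mul_index
          rw [hR11, hH] at h4
          rwa [show (R : Subgroup H).index = 10 by omega] at h3
        have := Nat.le_of_dvd (by norm_num) h2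
        exact Nat.ModEq.eq_of_lt_of_lt h1 (by omega) (by norm_num)
      haveI : Subsingleton (Sylow 11 H) := (Nat.card_eq_one_iff_unique.mp hone).1
      have hzR : Subgroup.zpowers z = (R : Subgroup H) :=
        Cfsg.Agent.SmallGroups.zpowers_eq_of_card_prime hR11 hR (fun e => by
          rw [e, orderOf_one] at hz; exact absurd hz (by norm_num))
      rw [hzR]
      exact Sylow.normal_of_subsingleton R
    intro h hh
    rw [hPz, Subgroup.mem_normalizer_iff]
    have hmap : ∀ y : Spor.J1, y ∈ Subgroup.zpowers (z : Spor.J1) →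
        ∀ k : H, (k : Spor.J1) * y * (k : Spor.J1)⁻¹ ∈ Subgroup.zpowers (z : Spor.J1) := by
      intro y hy k
      obtain ⟨n, rfl⟩ := Subgroup.mem_zpowers_iff.mp hy
      obtain ⟨m, hm⟩ := Subgroup.mem_zpowers_iff.mp
        (Subgroup.Normal.conj_mem inferInstance (z ^ n) (Subgroup.zpow_mem_zpowers z n) k)
      refine Subgroup.mem_zpowers_iff.mpr ⟨m, ?_⟩
      have := congrArg Subtype.val hm
      simpa using this
    refine fun y => ⟨fun hy => hmap y hy ⟨h, hh⟩, fun hy => ?_⟩
    have := hmap _ hy ⟨h⁻¹, inv_mem hh⟩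
    simpa [mul_assoc] using this
  have hidx : Nat.card (Sylow 11 Spor.J1) ≤ 1596 := by
    rw [P.card_eq_index_normalizer]
    have h1 := Subgroup.card_mul_index (Subgroup.normalizer (P : Set Spor.J1))
    have h2 : Nat.card H ≤ Nat.card (Subgroup.normalizer (P : Set Spor.J1)) :=
      Subgroup.card_le_of_le hN
    rw [card_J1] at h1
    rw [hH] at h2
    have h3 := Nat.mul_le_mul_right (Subgroup.normalizer (P : Set Spor.J1)).index h2
    omega
  have hmem : ∀ x : {x : Spor.J1 // orderOf x = 11}, ∃ Q : Sylow 11 Spor.J1,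
      x.1 ∈ (Q : Subgroup Spor.J1) :=
    fun x => Cfsg.Agent.SmallGroups.exists_mem_sylow x.2
  choose S hS using hmem
  let f : {x : Spor.J1 // orderOf x = 11} → Σ Q : Sylow 11 Spor.J1,
      {y : (Q : Subgroup Spor.J1) // y ≠ 1} :=
    fun x => ⟨S x, ⟨⟨x.1, hS x⟩, fun e => by
      have hx := x.2
      rw [show x.1 = 1 from congrArg Subtype.val e, orderOf_one] at hx
      exact absurd hx (by norm_num)⟩⟩
  have hf : Function.Injective f := fun x y e =>
    Subtype.ext (congrArg (fun p : Σ Q : Sylow 11 Spor.J1, {y : (Q : Subgroup Spor.J1) // y ≠ 1} =>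
      (p.2.1 : Spor.J1)) e)
  refine le_trans (Nat.card_le_card_of_injective f hf) ?_
  rw [Nat.card_sigma]
  have h10 : ∀ Q : Sylow 11 Spor.J1, Nat.card {y : (Q : Subgroup Spor.J1) // y ≠ 1} = 10 := by
    intro Q
    haveI : Fintype (Q : Subgroup Spor.J1) := Fintype.ofFinite _
    rw [Nat.card_eq_fintype_card, Fintype.card_subtype_compl, Fintype.card_subtype_eq,
      ← Nat.card_eq_fintype_card, hc Q]
  simp only [h10, Finset.sum_const, smul_eq_mul, Finset.card_univ, ← Nat.card_eq_fintype_card]
  omega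

theorem orderOf_uE : orderOf uE = 11 := by
  haveI : Fact (Nat.Prime 11) := ⟨by norm_num⟩
  exact orderOf_eq_prime (pow_eq_one_of_npowM mat_uE.1 mat_uE.2 genWord_valid.2.2.2.2.2.1)
    uE_ne_one

/-- Every automorphism is inner. -/
theorem card_out : Nat.card (Out Spor.J1) = 1 := by
  haveI := isSimpleGroup_J1
  haveI : Finite (MulAut Spor.J1) := Finite.of_injective
    (fun f : MulAut Spor.J1 => (f : Spor.J1 → Spor.J1)) DFunLike.coe_injective
  have hinj : Function.Injective (MulAut.conj : Spor.J1 →* MulAut Spor.J1) := by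
    rw [← MonoidHom.ker_eq_bot_iff]
    refine (IsSimpleGroup.eq_bot_or_eq_top_of_normal _ (MonoidHom.normal_ker _)).resolve_right ?_
    intro h
    have hc : ∀ x y : Spor.J1, y * x * y⁻¹ = x := fun x y => by
      have : MulAut.conj y = 1 := by rw [← MonoidHom.mem_ker, h]; exact Subgroup.mem_top _
      rw [← MulAut.conj_apply, this]; rfl
    -- a commutative group has no element of order eleven with this few listed involutions
    have h1 : (uE * vE) ^ 77 = uE ^ 77 * vE ^ 77 :=
      (show Commute uE vE from mul_inv_eq_iff_eq_mul.mp (hc vE uE)).mul_pow 77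
    have h7 : (uE * vE) ^ 7 = 1 := pow_eq_one_of_npowM (good_mul mat_uE.1 (good_invMat vIdx))
      (by rw [mat_mul, mat_uE.2, vE, mat_invElt, toMat_mul mat_uE.1 (good_invMat _)])
      genWord_valid.2.2.2.1
    have hu : uE ^ 11 = 1 := pow_eq_one_of_npowM mat_uE.1 mat_uE.2 genWord_valid.2.2.2.2.2.1
    rw [show 77 = 7 * 11 from rfl, pow_mul, h7, one_pow, mul_comm 7 11, pow_mul uE, hu, one_pow,
      one_mul] at h1
    refine vE_sq.2 ?_
    rw [h1, show 11 * 7 = 2 * 38 + 1 from rfl, pow_succ, pow_mul, sq, vE_sq.1, one_pow, one_mul]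
  have hInn : Nat.card (Inn Spor.J1) = 175560 :=
    (Nat.card_congr (MonoidHom.ofInjective hinj).toEquiv).symm.trans card_J1
  have hstab := Subgroup.card_mul_index (MulAction.stabilizer (MulAut Spor.J1) uE)
  have horb : (MulAction.stabilizer (MulAut Spor.J1) uE).index ≤ 15960 := by
    rw [MulAction.index_stabilizer, ← Nat.card_coe_set_eq]
    refine le_trans (Nat.card_le_card_of_injective
      (fun x => (⟨x.1, ?_⟩ : {x : Spor.J1 // orderOf x = 11}))
      (fun x y e => Subtype.ext (congrArg Subtype.val e :))) card_orderEleven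
    obtain ⟨φ, hφ⟩ := x.2
    rw [← hφ]
    exact (MulEquiv.orderOf_eq φ uE).trans orderOf_uE
  have hle : Nat.card (MulAut Spor.J1) ≤ 175560 := by
    rw [← hstab]
    exact (Nat.mul_le_mul card_stab horb).trans (by norm_num)
  have h := Subgroup.card_mul_index (Inn Spor.J1)
  rw [hInn] at h
  have h0 : (Inn Spor.J1).index ≠ 0 := Subgroup.index_ne_zero_of_finite
  show (Inn Spor.J1).index = 1
  omega

end Cfsg.Agent.J1Aut70
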