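import Cfsg.Agent.Recog71.J1Order
import Cfsg.Agent.J1Aut70.Data

/-!
# Kernel checks for the automorphisms of the first Janko group (helper70)
-/

set_option autoImplicit false
set_option maxRecDepth 100000

namespace Cfsg.Agent.J1Aut70

open Cfsg.Agent.Recog71.J1

/-- The pair of a listed involution. -/
def invPair (k : Fin 1463) : Fin 1596 × Fin 110 :=
  (Fin.ofNat 1596 (pick Data.involTab 18 k.val / 110), Fin.ofNat 110 (pick Data.involTab 18 k.val % 110))

/-- The packed matrix of a listed involution. -/
def invMat (k : Fin 1463) : ℕ := pairMat (invPair k)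

/-- The listed conjugate. -/
def conjIdx (k : Fin 1463) (g : Fin 2) : Fin 1463 :=
  Fin.ofNat 1463 (pick Data.conjTab 11 (2 * k.val + g.val))

theorem conj_valid : ∀ (k : Fin 1463) (g : Fin 2),
    mul (Gn g.val) (invMat k) = mul (invMat (conjIdx k g)) (Gn g.val) := by
  decide +kernel

theorem rep_invol_valid : ∀ (r : Fin 19) (d : Fin 110),
    force (pairMat (rep r, d)) (fun P => mul P P) = idm →
      pairMat (rep r, d) = idm ∨ ∃ k : Fin 1463, invPair k = (rep r, d) := by
  decide +kernel

/-- The packed element of order eleven. -/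
def uM : ℕ := mul (Gn 0) (mul (Gn 1) (Gn 1))

/-- The chosen involution. -/
def vIdx : Fin 1463 := Fin.ofNat 1463 Data.pickIdx

/-- A word in the element of order eleven and the chosen involution. -/
def wordUV : List ℕ → ℕ
  | [] => idm
  | l :: w => force (wordUV w) fun P => mul (if l = 0 then uM else invMat vIdx) P

theorem genWord_valid : wordUV (Data.genWord.getD 0 []) = Gn 0 ∧
    wordUV (Data.genWord.getD 1 []) = Gn 1 ∧
    mul (mul uM (invMat vIdx)) idm = mul uM (invMat vIdx) ∧
    npowM (mul uM (invMat vIdx)) 7 = idm ∧ npowM (mul uM (mul uM (invMat vIdx))) 11 = idm ∧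
    npowM uM 11 = idm ∧ toMat uM ≠ 1 ∧ mul idm idm = idm := by
  decide +kernel

/-- The relations of the chosen involution. -/
def relOK (k : Fin 1463) : Bool :=
  force (mul uM (invMat k)) fun P =>
    decide (npowM P 7 = idm) && decide (npowM (mul uM P) 11 = idm)

theorem relOK_count : (List.finRange 1463).countP relOK ≤ 11 := by decide +kernel

end Cfsg.Agent.J1Aut70
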